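import Groth.Agent.CohqA.BCMain
import Groth.Agent.LoccohB.HHmap

/-!
# Flat base change of cohomology, natural in the module

`X` over `Spec A`, `B` a flat `A`-algebra, `g : Y ⟶ X` the base change to `Spec B`, `M` quasi-coherent on `X`.

* `bc g M n : H^n(X, M) →+ H^n(Y, g^*M)`, natural in `M` (`bc_nat`);
* `exists_rep`: `B ⊗ H^n(X, M) ⟶ H^n(Y, g^*M)` is surjective;
* `surjective_map`: a map `∑ b_l g^*φ_l : g^*M ⟶ g^*M'` is surjective on `H^n` if `∑ b_l • H^n(φ_l) ⊗ B` is surjective.
-/

set_option autoImplicit false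

open CategoryTheory Abelian Limits TensorProduct Opposite TopologicalSpace AlgebraicGeometry

universe u

namespace K276.BCNat

open Groth.Agent.CohqA.BCExt Groth.Agent.CohqA.BCFree Groth.Agent.CohqA.BCGood
open Groth.Agent.CohqA.BCMod Groth.Agent.CohqA.BCPull Groth.Agent.CohqA.BCPushH Groth.Agent.CohqA.BCMain
open Groth.Agent.LoccohB.HHmap

section bc

variable {X Y : Scheme.{u}} (g : Y ⟶ X)

/-- The base change map `H^n(X, M) → H^n(Y, g^*M)`. -/
noncomputable def bc (M : X.Modules) (n : ℕ) :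
    Coh.HH X M n →+ Coh.HH Y ((Scheme.Modules.pullback g).obj M) n :=
  (pushMap g.base (Coh.toAb ((Scheme.Modules.pullback g).obj M)) n).comp (Sheaf.H.map (eta g M) n)

theorem eta_nat {M M' : X.Modules} (φ : M ⟶ M') :
    abHom φ ≫ eta g M' = eta g M ≫ (Coh.pushAb g).map (abHom ((Scheme.Modules.pullback g).map φ)) := by
  have h := (Scheme.Modules.pullbackPushforwardAdjunction g).unit.naturality φ
  exact congrArg (fun ψ => (SheafOfModules.toSheaf X.ringCatSheaf).map ψ) h

theorem bc_nat {M M' : X.Modules} (φ : M ⟶ M') (n : ℕ) (x : Coh.HH X M n) :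
    bc g M' n (map φ n x) = map ((Scheme.Modules.pullback g).map φ) n (bc g M n x) := by
  have h1 : Sheaf.H.map (eta g M') n (Sheaf.H.map (abHom φ) n x) =
      Sheaf.H.map ((Coh.pushAb g).map (abHom ((Scheme.Modules.pullback g).map φ))) n (Sheaf.H.map (eta g M) n x) := by
    rw [← Sheaf.H.map_comp_apply, ← Sheaf.H.map_comp_apply, eta_nat]
  change pushMap g.base _ n (Sheaf.H.map (eta g M') n (Sheaf.H.map (abHom φ) n x)) = _
  rw [h1]
  exact pushMap_naturality g.base (abHom ((Scheme.Modules.pullback g).map φ)) n _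

end bc

section flat

variable {A B : Type u} [CommRing A] [CommRing B] [Algebra A B] {X Y : Scheme.{u}} [X.Over (Spec (CommRingCat.of A))]
  (f' : Y ⟶ Spec (CommRingCat.of B)) (g : Y ⟶ X)
  (h : IsPullback g f' (X ↘ Spec (CommRingCat.of A)) (Spec.map (CommRingCat.ofHom (algebraMap A B))))

/-- `H^n(X, M)` as a module through `rho`. -/
noncomputable def eqv (M : X.Modules) (n : ℕ) :
    Coh.HH X M n ≃ₗ[A] EM (rho (X ↘ Spec (CommRingCat.of A)) M) (constZ X.toTopCat) n :=
  { (out (rho (X ↘ Spec (CommRingCat.of A)) M)).symm with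
    map_smul' := fun _ _ => rfl }

include h in
/-- The base change map is surjective, in the form: every class is a combination of base changes. -/
theorem exists_rep [Module.Flat A B] [CompactSpace X] [QuasiSeparatedSpace X] (M : X.Modules) (hM : Coh.IsQCoh M)
    (n : ℕ) : ∃ Θ : B ⊗[A] Coh.HH X M n →+ Coh.HH Y ((Scheme.Modules.pullback g).obj M) n,
      (∀ (b : B) (x : Coh.HH X M n), Θ (b ⊗ₜ x) = Coh.toGlobal f' b • bc g M n x) ∧ Function.Bijective Θ := by
  have haff : IsAffineHom g :=
    MorphismProperty.of_isPullback (P := @IsAffineHom) h.flip inferInstance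
  have hN : Coh.IsQCoh ((Scheme.Modules.pullback g).obj M) :=
    Groth.Agent.VarietyB.PullSec.isQCoh_pullback g M hM
  let ρ := rho (X ↘ Spec (CommRingCat.of A)) M
  let σ := sig f' g ((Scheme.Modules.pullback g).obj M)
  have hg := good_const_of_flat (X ↘ Spec (CommRingCat.of A)) f' g M h hM n
  let τ := theta ρ σ (eta g M) (hcomm _ f' g M h.w) (constZ X.toTopCat) n
  let e : B ⊗[A] Coh.HH X M n ≃ₗ[B] B ⊗[A] EM ρ (constZ X.toTopCat) n := (eqv M n).baseChange A B _ _
  let π := pushMap g.base (Coh.toAb ((Scheme.Modules.pullback g).obj M)) n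
  have hπ := pushMap_bijective_of_isAffineHom g ((Scheme.Modules.pullback g).obj M) n
  refine ⟨π.comp ((out σ).toAddMonoidHom.comp (τ.toAddMonoidHom.comp e.toAddMonoidHom)), fun b x => ?_, ?_⟩
  · change π (out σ (τ (e (b ⊗ₜ x)))) = _
    have h1 : e (b ⊗ₜ x) = b ⊗ₜ eqv M n x := rfl
    rw [h1, theta_tmul, out_smul]
    exact pushMap_naturality g.base
      (Coh.smulAb ((Scheme.Modules.pullback g).obj M) (Coh.toGlobal f' b)) n _
  · exact hπ.comp ((out σ).bijective.comp (hg.comp e.bijective))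

/-- The map induced on cohomology, as a linear map. -/
noncomputable def hmap {M M' : X.Modules} (φ : M ⟶ M') (n : ℕ) : Coh.HH X M n →ₗ[A] Coh.HH X M' n where
  toFun := map φ n
  map_add' := map_add _
  map_smul' a x := map_smul_over φ a n x

theorem hmap_apply {M M' : X.Modules} (φ : M ⟶ M') (n : ℕ) (x : Coh.HH X M n) :
    hmap (A := A) φ n x = map φ n x := rfl

include h in
/-- **Surjectivity on cohomology of combinations of base changes.** -/
theorem surjective_map [Module.Flat A B] [CompactSpace X] [QuasiSeparatedSpace X] {M M' : X.Modules}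
    (hM : Coh.IsQCoh M) (hM' : Coh.IsQCoh M') {n : ℕ} {σ : Type*} [Fintype σ] (φ : σ → (M ⟶ M')) (b : σ → B)
    (u : (Scheme.Modules.pullback g).obj M ⟶ (Scheme.Modules.pullback g).obj M')
    (hu : ∀ x, map u n x = ∑ l, Coh.toGlobal f' (b l) • map ((Scheme.Modules.pullback g).map (φ l)) n x)
    (hs : Function.Surjective ⇑(∑ l, b l • (hmap (φ l) n).baseChange B :
      B ⊗[A] Coh.HH X M n →ₗ[B] B ⊗[A] Coh.HH X M' n)) :
    Function.Surjective (map u n) := by
  obtain ⟨Θ, hΘ, -⟩ := exists_rep f' g h M hM n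
  obtain ⟨Θ', hΘ', hb⟩ := exists_rep f' g h M' hM' n
  intro y
  obtain ⟨t, rfl⟩ := hb.2 y
  obtain ⟨s, rfl⟩ := hs t
  refine ⟨Θ s, ?_⟩
  induction s using TensorProduct.induction_on with
  | zero => rw [_root_.map_zero, _root_.map_zero, _root_.map_zero, _root_.map_zero]
  | add x y hx hy => rw [_root_.map_add, _root_.map_add, hx, hy, _root_.map_add, _root_.map_add]
  | tmul c x =>
    rw [hΘ, hu, LinearMap.sum_apply, _root_.map_sum]
    refine Finset.sum_congr rfl fun l _ => ?_
    rw [LinearMap.smul_apply, LinearMap.baseChange_tmul, TensorProduct.smul_tmul', hΘ', smul_eq_mul, map_mul, mul_smul,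
      map_smul, hmap_apply, bc_nat]

end flat

end K276.BCNat
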