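import Groth.Agent.BunMod.K890.KSDefs
import Groth.Agent.ASBun.K791.Tens
import Groth.Prelude.Def_ModFun2
import Groth.Prelude.Def_ExtPow2

/-!
# The data of a versal family of cokernels (helper276, S16926)

`Data k X r m N D₀`: `K` invertible, `G` of rank `r + m + 1`, a basis `e` of `Hom(K, G)`, such that the cokernels of
`∑ a_i e_i` are bundles of rank `r + m` with determinant `D₀`, all bundles `E^∨ ⊕ (F ⊗ N)` with `E`, `F` semistable of
degree zero and the right determinant are among them, and such that the points of codimension at most one are versal.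
-/

set_option autoImplicit false
universe u

open CategoryTheory CategoryTheory.Limits AlgebraicGeometry
open scoped Groth.Agent.Dcoh.MonCat

namespace K276

open K140.BM K524.X1Fam K890.KS

/-- The data of a versal family of cokernels. -/
structure Data (k : Type u) [Field k] (X : Scheme.{u}) [X.Over (Spec (CommRingCat.of k))] (r m : ℕ)
    (N D₀ : X.Modules) where
  /-- The line bundle. -/
  K : X.Modules
  /-- The bundle of rank `r + m + 1`. -/
  G : X.Modules
  /-- Its dual. -/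
  G' : X.Modules
  /-- `G` is a sum of copies of `P'`. -/
  P' : X.Modules
  /-- The dimension of `Hom(K, G)`. -/
  M : ℕ
  /-- The basis. -/
  e : Fin M → (K ⟶ G)
  hK : FlatMod.IsFinLocFreeOfRank 1 K
  hG : FlatMod.IsFinLocFreeOfRank (r + m + 1) G
  hG' : FlatMod.IsFinLocFreeOfRank (r + m + 1) G'
  pair : Nonempty (ExactPairing G G')
  hP' : PicF.IsInvertible P'
  summand : ∃ (q : ℕ) (ι : Fin q → (P' ⟶ G)) (ρ : Fin q → (G ⟶ P')), ∑ j, ρ j ≫ ι j = 𝟙 G
  basis : HomBasis (st k X) e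
  span : ∀ u : K ⟶ G, ∃ a : Fin M → k, u = ua e a
  /-- `h¹(G ⊗ G') < dim Hom(K, P')`. -/
  big : ∃ (d : ℕ) (v : Fin d → (K ⟶ P')), (∀ a : Fin d → k, ua v a = 0 → a = 0) ∧
    Module.finrank k (Coh.HH X (CohB1.tensorMod G G') 1) < d
  epi : Epi (Limits.Sigma.desc e)
  det : ∃ D : X.Modules, ExtPow.IsExtPow (1 + (r + m)) G D ∧ Nonempty (CohB1.tensorMod K D₀ ≅ D)
  onto : ∀ E₀ F₀ S₀ V₀ : X.Modules, FlatMod.IsFinLocFreeOfRank r E₀ → Curv2.deg k X E₀ r = 0 →
    ModFun.IsSlopeSemistable k X E₀ r → FlatMod.IsFinLocFreeOfRank m F₀ → Curv2.deg k X F₀ m = 0 →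
    ModFun.IsSlopeSemistable k X F₀ m → Nonempty (ExactPairing E₀ S₀) →
    Nonempty (V₀ ≅ S₀ ⊞ CohB1.tensorMod F₀ N) → ExtPow.IsExtPow (r + m) V₀ D₀ →
    ∃ a : Fin M → k, Nonempty (cokernel (ua e a) ≅ V₀)

end K276
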