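import Mathlib.RingTheory.AlgebraicIndependent.TranscendenceBasis
import Mathlib.RingTheory.Nullstellensatz
import Mathlib.LinearAlgebra.Matrix.Rank
import Mathlib.LinearAlgebra.Matrix.ToLin
import Mathlib.LinearAlgebra.Matrix.Dual
import Mathlib.LinearAlgebra.Dual.Lemmas
import Mathlib.Combinatorics.Matroid.Rank.ENat
import Mathlib.Combinatorics.Matroid.Rank.Finite
import Mathlib.Data.Set.Card
import Mathlib.FieldTheory.IntermediateField.Adjoin.Basic
import Mathlib.RingTheory.Derivation.Basic
import Mathlib.Algebra.BigOperators.Field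
import Mathlib.LinearAlgebra.TensorProduct.Tower
import Mathlib.LinearAlgebra.Basis.VectorSpace
import Mathlib.LinearAlgebra.TensorProduct.Basis
import Mathlib.FieldTheory.Separable
import Mathlib.FieldTheory.Minpoly.Field
import Mathlib.Algebra.CharP.Algebra

/-!
# Points of codimension at most one of an affine space

`k ⊆ F` fields, `x : σ → F`. `Gen k x`: the transcendence degree of `k(x)` is at least `#σ - 1`.

* `gen_line`: the points `a + c b` of a generic line; `gen_of_span`: points at which the derivatives of `x` together with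
  one vector span everything (characteristic zero);
* `surjective`: a family of linear maps `A l : U ⟶ V` such that `dim (ξ ∘ A l)_l > dim V` for all `ξ ≠ 0` in `V^*`; then
  `∑ x l • A l` is surjective over `F` at all points `x` with `Gen k x`;
* `card_le_two`: at most two independent linear equations, with coefficients in a field of transcendence degree one,
  vanish at `x`.

(The idea of counting generators is the one of `K758.Cod`.)
-/

set_option autoImplicit false

open Algebra Module TensorProduct

namespace K276.GenAlg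

section cl

variable (k : Type*) {F : Type*} [Field k] [Field F] [Algebra k F]

/-- The field of the elements algebraic over `k(S)`. -/
def cl (S : Set F) : IntermediateField k F where
  carrier := {a | IsAlgebraic (Algebra.adjoin k S) a}
  mul_mem' := fun ha hb => IsAlgebraic.mul ha hb
  one_mem' := isAlgebraic_algebraMap (1 : Algebra.adjoin k S)
  add_mem' := fun ha hb => IsAlgebraic.add ha hb
  zero_mem' := isAlgebraic_algebraMap (0 : Algebra.adjoin k S)
  algebraMap_mem' := fun x =>
    isAlgebraic_algebraMap (⟨algebraMap k F x, Subalgebra.algebraMap_mem _ x⟩ : Algebra.adjoin k S)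
  inv_mem' := fun _ ha => IsAlgebraic.inv ha

theorem mem_cl {S : Set F} {a : F} : a ∈ cl k S ↔ IsAlgebraic (Algebra.adjoin k S) a := Iff.rfl

theorem coe_cl (S : Set F) : (cl k S : Set F) = (AlgebraicIndependent.matroid k F).closure S := by
  rw [AlgebraicIndependent.matroid_closure_eq]
  rfl

theorem subset_cl (S : Set F) : S ⊆ cl k S := fun x hx =>
  isAlgebraic_algebraMap (⟨x, Algebra.subset_adjoin hx⟩ : Algebra.adjoin k S)

variable {k}

theorem cl_le {S T : Set F} (h : S ⊆ cl k T) : cl k S ≤ cl k T := by
  have h1 : S ⊆ (AlgebraicIndependent.matroid k F).closure T := by rwa [← coe_cl]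
  have h2 := Matroid.closure_subset_closure_of_subset_closure h1
  intro x hx
  have h3 : x ∈ (cl k S : Set F) := hx
  rw [coe_cl] at h3
  have h4 := h2 h3
  rw [← coe_cl] at h4
  exact h4

theorem cl_mono {S T : Set F} (h : S ⊆ T) : cl k S ≤ cl k T := cl_le (h.trans (subset_cl k T))

/-- Exchange. -/
theorem card_le (S : Set F) (hS : S.Finite) {τ : Type*} [Fintype τ] (y : τ → F)
    (hy : AlgebraicIndependent k y) (h : ∀ i, y i ∈ cl k S) : Fintype.card τ ≤ S.ncard := by
  classical
  let M := AlgebraicIndependent.matroid k F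
  have h1 : M.Indep (Set.range y) := by
    rw [AlgebraicIndependent.matroid_indep_iff]
    exact hy.to_subtype_range
  have h2 : Set.range y ⊆ M.closure S := by
    rw [← coe_cl]
    rintro _ ⟨i, rfl⟩
    exact h i
  have h3 : M.eRk (Set.range y) ≤ M.eRk S := by
    rw [← M.eRk_closure_eq S]
    exact M.eRk_mono h2
  rw [h1.eRk_eq_encard] at h3
  have h4 := h3.trans (M.eRk_le_encard S)
  have h5 : (Set.range y).encard = Fintype.card τ := by
    rw [← Set.image_univ, hy.injective.encard_image, Set.encard_univ, ENat.card_eq_coe_fintype_card]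
  rw [h5, ← hS.cast_ncard_eq] at h4
  exact_mod_cast h4

variable (k)

/-- The transcendence degree of `k(x)` is at least `#σ - 1`. -/
def Gen {σ : Type*} [Fintype σ] (x : σ → F) : Prop :=
  ∀ S : Set F, S.Finite → (∀ l, x l ∈ cl k S) → Fintype.card σ ≤ S.ncard + 1

variable {k}

theorem gen_of_indep {σ : Type*} [Fintype σ] (x : σ → F) (j : σ)
    (hx : AlgebraicIndependent k (fun l : {l : σ // l ≠ j} => x l)) : Gen k x := by
  classical
  intro S hS h
  have hle := card_le S hS (fun l : {l : σ // l ≠ j} => x l) hx (fun l => h l)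
  rw [Fintype.card_subtype_compl, Fintype.card_subtype_eq] at hle
  omega

/-- A point `a + c b` of the line through two independent generic points. -/
theorem gen_line {σ : Type*} [Fintype σ] {a b : σ → F}
    (hab : AlgebraicIndependent k (Sum.elim a b)) (c : F) : Gen k (fun l => a l + c * b l) := by
  classical
  intro S hS h
  let S' : Set F := (S ∪ {c}) ∪ Set.range b
  have hmono : cl k S ≤ cl k S' := cl_mono (Set.subset_union_left.trans Set.subset_union_left)
  have hc : c ∈ cl k S' := subset_cl k S' (Or.inl (Or.inr rfl))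
  have hb : ∀ l, b l ∈ cl k S' := fun l => subset_cl k S' (Or.inr ⟨l, rfl⟩)
  have ha : ∀ l, a l ∈ cl k S' := by
    intro l
    have h1 := sub_mem (hmono (h l)) (mul_mem hc (hb l))
    simpa using h1
  have hle := card_le S' ((hS.union (Set.finite_singleton c)).union (Set.finite_range b))
    (Sum.elim a b) hab (by rintro (l | l); exacts [ha l, hb l])
  have h1 : S'.ncard ≤ (S ∪ {c}).ncard + (Set.range b).ncard := Set.ncard_union_le _ _
  have h2 : (S ∪ {c}).ncard ≤ S.ncard + 1 := by
    refine (Set.ncard_union_le _ _).trans ?_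
    rw [Set.ncard_singleton]
  have h3 : (Set.range b).ncard ≤ Fintype.card σ := by
    rw [← Set.image_univ]
    refine (Set.ncard_image_le Set.finite_univ).trans ?_
    rw [Set.ncard_univ, Nat.card_eq_fintype_card]
  rw [Fintype.card_sum] at hle
  omega

/-- The generic point itself. -/
theorem gen_of_alg {σ : Type*} [Fintype σ] {x : σ → F} (hx : AlgebraicIndependent k x) : Gen k x := by
  intro S hS h
  exact (card_le S hS x hx h).trans (Nat.le_succ _)

end cl

section count

variable {k F : Type*} [Field k] [Field F] [Algebra k F]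

/-- If `x` satisfies `r` independent linear equations with coefficients in the field `cl k S`, `x` is algebraic over
`k(S)` and `#σ - r` elements. -/
theorem card_le_of_eqns {σ η : Type*} [Fintype σ] {x : σ → F} (hx : Gen k x) (S : Set F) (hS : S.Finite)
    (T : η → σ → cl k S) (hT : ∀ a, ∑ l, (T a l : F) * x l = 0) :
    finrank (cl k S) (Submodule.span (cl k S) (Set.range T)) ≤ S.ncard + 1 := by
  classical
  let L := cl k S
  let φ : (σ → L) →ₗ[L] F := Fintype.linearCombination L x
  have hR : Submodule.span L (Set.range T) ≤ LinearMap.ker φ := by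
    rw [Submodule.span_le]
    rintro _ ⟨a, rfl⟩
    have h1 := hT a
    change φ (T a) = 0
    simp only [φ, Fintype.linearCombination_apply]
    rw [← h1]
    rfl
  have hfin2 : finrank L ↥(Submodule.span L (Set.range T)) ≤ finrank L ↥(LinearMap.ker φ) :=
    Submodule.finrank_mono hR
  have hfin3 : finrank L ↥(LinearMap.range φ) + finrank L ↥(LinearMap.ker φ) = Fintype.card σ := by
    rw [LinearMap.finrank_range_add_finrank_ker φ, Module.finrank_fintype_fun_eq_card]
  let bs := Module.finBasis L (LinearMap.range φ)
  let S1 : Set F := Set.range (fun i => (bs i : F))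
  have hS1 : S1.Finite := Set.finite_range _
  have hmem : ∀ l, x l ∈ cl k (S ∪ S1) := by
    intro l
    have h1 : x l ∈ LinearMap.range φ := by
      refine ⟨Pi.single l 1, ?_⟩
      simp only [φ, Fintype.linearCombination_apply_single, one_smul]
    have h2 := bs.sum_repr ⟨x l, h1⟩
    have h3 := congrArg (fun v : LinearMap.range φ => (v : F)) h2
    simp only [AddSubmonoidClass.coe_finsetSum, SetLike.val_smul] at h3
    rw [← h3]
    refine sum_mem fun i _ => ?_
    rw [Algebra.smul_def]
    refine mul_mem (cl_mono Set.subset_union_left (bs.repr ⟨x l, h1⟩ i).2) ?_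
    exact subset_cl k _ (Or.inr ⟨i, rfl⟩)
  have hle := hx (S ∪ S1) (hS.union hS1) hmem
  have hn1 : S1.ncard ≤ Module.finrank L (LinearMap.range φ) := by
    have : S1 = ((Finset.univ.image (fun i => (bs i : F)) : Finset F) : Set F) := by
      ext i; simp [S1]
    rw [this, Set.ncard_coe_finset]
    refine Finset.card_image_le.trans ?_
    rw [Finset.card_univ, Fintype.card_fin]
  have hn : (S ∪ S1).ncard ≤ S.ncard + S1.ncard := Set.ncard_union_le S S1
  change finrank L (Submodule.span L (Set.range T)) ≤ _
  omega

end count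

section nullst

variable {k F : Type*} [Field k] [Field F] [Algebra k F] {σ ι η : Type*} [Fintype σ] [Fintype ι] [Fintype η]

omit [Fintype η] in
/-- Rank factorization. -/
theorem exists_factor [Finite η] (A : Matrix η σ F) :
    ∃ (B : Matrix η (Fin A.rank) F) (C : Matrix (Fin A.rank) σ F), ∀ a l, A a l = ∑ j, B a j * C j l := by
  classical
  let b : Basis (Fin A.rank) F (LinearMap.range A.mulVecLin) := Module.finBasisOfFinrankEq _ _ rfl
  refine ⟨fun a j => (b j : η → F) a, fun j l => b.repr ⟨A.mulVecLin (Pi.single l 1), ⟨_, rfl⟩⟩ j, fun a l => ?_⟩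
  let v : LinearMap.range A.mulVecLin := ⟨A.mulVecLin (Pi.single l 1), ⟨_, rfl⟩⟩
  have hv : (v : η → F) a = A a l := by
    simp only [v, Matrix.mulVecLin_apply, Matrix.mulVec_single_one, Matrix.col_apply]
  calc A a l = ((∑ j, b.repr v j • b j : LinearMap.range A.mulVecLin) : η → F) a := by rw [b.sum_repr v, hv]
    _ = ∑ j, (b j : η → F) a * b.repr v j := by
      simp only [AddSubmonoidClass.coe_finsetSum, SetLike.val_smul, Finset.sum_apply, Pi.smul_apply, smul_eq_mul]
      exact Finset.sum_congr rfl fun j _ => mul_comm _ _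

omit [Fintype η] in
theorem rank_le_of_factor [Finite η] {A : Matrix η σ F} {m : ℕ} (B : Matrix η (Fin m) F) (C : Matrix (Fin m) σ F)
    (h : ∀ a l, A a l = ∑ j, B a j * C j l) : A.rank ≤ m := by
  have h1 : A = B * C := by
    ext a l
    rw [Matrix.mul_apply]
    exact h a l
  rw [h1]
  refine (Matrix.rank_mul_le_left B C).trans ?_
  simpa using Matrix.rank_le_card_width B

variable (F) in
/-- The matrix of linear forms `t` at the point `p`. -/
def mt (t : σ → ι → η → k) (p : ι → F) : Matrix η σ F := fun a l => ∑ i, algebraMap k F (t l i a) * p i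

/-- The rank of a matrix of linear forms over an algebraically closed field, at the points over an extension. -/
theorem rank_ext [IsAlgClosed k] (t : σ → ι → η → k) {m : ℕ} (h : ∀ p : ι → k, p ≠ 0 → m < (mt k t p).rank)
    (p : ι → F) (hp : p ≠ 0) : m < (mt F t p).rank := by
  classical
  by_contra hcon
  push Not at hcon
  obtain ⟨j, hj⟩ : ∃ j, p j ≠ 0 := Function.ne_iff.mp hp
  obtain ⟨B, C, hBC⟩ := exists_factor (mt F t p)
  let z : ι ⊕ (η × Fin (mt F t p).rank) ⊕ (Fin (mt F t p).rank × σ) → F :=
    Sum.elim (fun i => p i / p j) (Sum.elim (fun q => B q.1 q.2 / p j) (fun q => C q.1 q.2))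
  let I : Ideal (MvPolynomial (ι ⊕ (η × Fin (mt F t p).rank) ⊕ (Fin (mt F t p).rank × σ)) k) :=
    RingHom.ker (MvPolynomial.aeval (R := k) z).toRingHom
  have hI : I ≠ ⊤ := RingHom.ker_ne_top _
  obtain ⟨m', hm, hIm⟩ := Ideal.exists_le_maximal I hI
  obtain ⟨x, rfl⟩ := (MvPolynomial.isMaximal_iff_eq_vanishingIdeal_singleton).mp hm
  have key : ∀ q : MvPolynomial (ι ⊕ (η × Fin (mt F t p).rank) ⊕ (Fin (mt F t p).rank × σ)) k,
      MvPolynomial.aeval z q = 0 → MvPolynomial.eval x q = 0 := by
    intro q hq
    have h1 : q ∈ I := hq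
    have h2 := hIm h1
    rw [MvPolynomial.mem_vanishingIdeal_singleton_iff] at h2
    simpa [MvPolynomial.aeval_eq_eval] using h2
  have h1 : x (Sum.inl j) = 1 := by
    have := key (MvPolynomial.X (Sum.inl j) - 1) (by simp [z, hj])
    simpa [sub_eq_zero] using this
  refine absurd ((h (fun i => x (Sum.inl i)) fun h => one_ne_zero (h1.symm.trans (congrFun h j))).trans_le
    (rank_le_of_factor (fun a q => x (Sum.inr (Sum.inl (a, q)))) (fun q l => x (Sum.inr (Sum.inr (q, l))))
      fun a l => ?_)) (not_lt.2 hcon)
  have := key (∑ i, MvPolynomial.C (t l i a) * MvPolynomial.X (Sum.inl i) -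
    ∑ q, MvPolynomial.X (Sum.inr (Sum.inl (a, q))) * MvPolynomial.X (Sum.inr (Sum.inr (q, l)))) (by
      simp only [map_sub, map_sum, map_mul, MvPolynomial.aeval_X, MvPolynomial.aeval_C, z, Sum.elim_inl, Sum.elim_inr]
      rw [sub_eq_zero]
      have h3 := hBC a l
      simp only [mt] at h3
      have h4 : ∑ i, algebraMap k F (t l i a) * (p i / p j) = (∑ i, algebraMap k F (t l i a) * p i) / p j := by
        rw [Finset.sum_div]
        exact Finset.sum_congr rfl fun i _ => by rw [mul_div_assoc]
      rw [h4, h3, Finset.sum_div]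
      exact Finset.sum_congr rfl fun i _ => by ring)
  simp only [map_sub, map_sum, map_mul, MvPolynomial.eval_C, MvPolynomial.eval_X, sub_eq_zero] at this
  exact this

end nullst
section surj

variable {k F : Type*} [Field k] [IsAlgClosed k] [Field F] [Algebra k F] {σ : Type*} [Fintype σ] {U V : Type*}
  [AddCommGroup U] [Module k U] [FiniteDimensional k U] [AddCommGroup V] [Module k V] [FiniteDimensional k V]

omit [IsAlgClosed k] [FiniteDimensional k U] [FiniteDimensional k V] in
theorem rank_mt {ι η : Type*} [Fintype ι] [Fintype η] (bU : Basis η k U) (bV : Basis ι k V) (A : σ → U →ₗ[k] V)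
    (p : ι → k) : (mt k (fun l i a => bV.repr (A l (bU a)) i) p).rank =
      finrank k (Submodule.span k (Set.range fun l => (∑ i, p i • bV.coord i) ∘ₗ A l)) := by
  classical
  rw [Matrix.rank_eq_finrank_span_cols]
  let e : (U →ₗ[k] k) ≃ₗ[k] (η → k) := (bU.constr k).symm
  rw [← LinearEquiv.finrank_map_eq e, Submodule.map_span, ← Set.range_comp]
  have hcol : (mt k (fun l i a => bV.repr (A l (bU a)) i) p).col =
      ⇑e.toLinearMap ∘ fun l => (∑ i, p i • bV.coord i) ∘ₗ A l := by
    funext l
    funext a
    have h : (e.toLinearMap ((∑ i, p i • bV.coord i) ∘ₗ A l)) a = ((∑ i, p i • bV.coord i) ∘ₗ A l) (bU a) := rfl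
    rw [Function.comp_apply, h, LinearMap.comp_apply, LinearMap.sum_apply]
    simp only [Matrix.col_apply, mt]
    refine Finset.sum_congr rfl fun i _ => ?_
    rw [LinearMap.smul_apply, Basis.coord_apply, smul_eq_mul, mul_comm]
    rfl
  rw [hcol]

/-- **Surjectivity at the points of codimension at most one.** -/
theorem surjective (A : σ → U →ₗ[k] V)
    (hA : ∀ ξ : Module.Dual k V, ξ ≠ 0 →
      finrank k V < finrank k (Submodule.span k (Set.range fun l => ξ ∘ₗ A l)))
    {x : σ → F} (hx : Gen k x) :
    Function.Surjective ⇑(∑ l, x l • (A l).baseChange F : F ⊗[k] U →ₗ[F] F ⊗[k] V) := by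
  classical
  let bU := Module.finBasis k U
  let bV := Module.finBasis k V
  let t : σ → Fin (finrank k V) → Fin (finrank k U) → k := fun l i a => bV.repr (A l (bU a)) i
  rw [← LinearMap.range_eq_top]
  by_contra hcon
  obtain ⟨ξ, hξ0, hξ⟩ := Submodule.exists_le_ker_of_lt_top _ (lt_top_iff_ne_top.2 hcon)
  let p : Fin (finrank k V) → F := fun i => ξ (1 ⊗ₜ bV i)
  have hp : p ≠ 0 := by
    intro h
    refine hξ0 ((bV.baseChange F).ext fun i => ?_)
    rw [Basis.baseChange_apply, LinearMap.zero_apply]
    exact congrFun h i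
  obtain ⟨j0, hj0⟩ : ∃ j, p j ≠ 0 := Function.ne_iff.mp hp
  let p' : Fin (finrank k V) → F := fun i => p i / p j0
  let S : Set F := p' '' {i | i ≠ j0}
  have hS : S.Finite := (Set.toFinite _).image _
  have hp'1 : p' j0 = 1 := div_self hj0
  have hp' : ∀ i, p' i ∈ cl k S := by
    intro i
    by_cases hi : i = j0
    · rw [hi, hp'1]; exact one_mem _
    · exact subset_cl k S ⟨i, hi, rfl⟩
  let q : Fin (finrank k V) → cl k S := fun i => ⟨p' i, hp' i⟩
  have hq : q ≠ 0 := fun h => one_ne_zero (hp'1.symm.trans (congrArg Subtype.val (congrFun h j0)))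
  have hr : finrank k V < (mt (cl k S) t q).rank := by
    refine rank_ext t (fun u hu => ?_) q hq
    rw [rank_mt bU bV A u]
    refine hA _ fun h => hu ?_
    funext i
    have := LinearMap.congr_fun h (bV i)
    simpa [Finsupp.single_apply] using this
  have hle := card_le_of_eqns hx S hS (mt (cl k S) t q) (fun a => by
    have h1 : ξ ((∑ l, x l • (A l).baseChange F) (1 ⊗ₜ bU a)) = 0 := hξ ⟨_, rfl⟩
    have h2 : ∀ l, ξ ((x l • (A l).baseChange F) (1 ⊗ₜ bU a)) = x l * ∑ i, algebraMap k F (t l i a) * p i := by
      intro l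
      rw [LinearMap.smul_apply, map_smul, LinearMap.baseChange_tmul, smul_eq_mul]
      congr 1
      conv_lhs => rw [← bV.sum_repr (A l (bU a)), TensorProduct.tmul_sum, map_sum]
      refine Finset.sum_congr rfl fun i _ => ?_
      rw [TensorProduct.tmul_smul, ← algebraMap_smul F, map_smul, smul_eq_mul]
    rw [LinearMap.sum_apply, map_sum] at h1
    simp_rw [h2] at h1
    have h3 : ∀ l, ((mt (cl k S) t q a l : cl k S) : F) * x l =
        (x l * ∑ i, algebraMap k F (t l i a) * p i) / p j0 := by
      intro l
      have h4 : ((mt (cl k S) t q a l : cl k S) : F) = ∑ i, algebraMap k F (t l i a) * (p i / p j0) := by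
        simp only [mt, q]
        push_cast
        rfl
      rw [h4, Finset.mul_sum, Finset.sum_mul, Finset.sum_div]
      exact Finset.sum_congr rfl fun i _ => by ring
    simp_rw [h3]
    rw [← Finset.sum_div, h1, zero_div])
  have h5 : finrank (cl k S) (Submodule.span (cl k S) (Set.range (mt (cl k S) t q))) = (mt (cl k S) t q).rank :=
    (Matrix.rank_eq_finrank_span_row _).symm
  have hn0 : S.ncard ≤ finrank k V - 1 := by
    refine (Set.ncard_image_le (Set.toFinite _)).trans ?_
    have : ({i | i ≠ j0} : Set (Fin (finrank k V))) =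
        ((Finset.univ.erase j0 : Finset (Fin (finrank k V))) : Set (Fin (finrank k V))) := by
      ext i; simp
    rw [this, Set.ncard_coe_finset, Finset.card_erase_of_mem (Finset.mem_univ _),
      Finset.card_univ, Fintype.card_fin]
  have hι : 0 < finrank k V := Fin.pos j0
  omega

end surj

section eqns

variable {k F : Type*} [Field k] [Field F] [Algebra k F] {σ : Type*} [Fintype σ]

/-- At most two independent equations with coefficients in a field of transcendence degree one. -/
theorem card_le_two {x : σ → F} (hx : Gen k x) (s : F) {r : ℕ} (T : Fin r → σ → F) (hT : ∀ a l, T a l ∈ cl k {s})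
    (hind : LinearIndependent F T) (h0 : ∀ a, ∑ l, T a l * x l = 0) : r ≤ 2 := by
  have h1 := card_le_of_eqns hx {s} (Set.finite_singleton s) (fun a l => (⟨T a l, hT a l⟩ : cl k {s})) h0
  rw [Set.ncard_singleton] at h1
  have h2 : LinearIndependent (cl k {s}) (fun a l => (⟨T a l, hT a l⟩ : cl k {s})) := by
    rw [Fintype.linearIndependent_iff] at hind ⊢
    intro g hg a
    have h3 := hind (fun a => (g a : F)) (by
      funext l
      have h4 := congrArg Subtype.val (congrFun hg l)
      simp only [Finset.sum_apply, Pi.smul_apply, smul_eq_mul, Pi.zero_apply] at h4 ⊢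
      push_cast at h4
      exact h4) a
    exact Subtype.ext h3
  rw [finrank_span_eq_card h2, Fintype.card_fin] at h1
  exact h1

end eqns
section der

/-- The derivative of `a` in all directions is a combination of the derivatives of the elements of `S`. -/
def Dep (k : Type*) {F : Type*} [Field k] [Field F] [Algebra k F] (S : Finset F) (a : F) : Prop :=
  ∃ c : F → F, ∀ D : Derivation k F F, D a = ∑ s ∈ S, c s * D s

variable {k F : Type*} [Field k] [Field F] [Algebra k F] {S : Finset F}

theorem dep_adjoin {a : F} (ha : a ∈ IntermediateField.adjoin k (S : Set F)) : Dep k S a := by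
  classical
  induction ha using IntermediateField.adjoin_induction with
  | mem x hx =>
    refine ⟨fun s => if s = x then 1 else 0, fun D => ?_⟩
    have : x ∈ S := hx
    simp [this]
  | algebraMap x =>
    refine ⟨0, fun D => ?_⟩
    rw [D.map_algebraMap]
    simp
  | add x y _ _ hx hy =>
    obtain ⟨c, hc⟩ := hx
    obtain ⟨c', hc'⟩ := hy
    refine ⟨fun s => c s + c' s, fun D => ?_⟩
    rw [map_add, hc, hc', ← Finset.sum_add_distrib]
    exact Finset.sum_congr rfl fun s _ => by ring
  | inv x _ hx =>
    obtain ⟨c, hc⟩ := hx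
    refine ⟨fun s => - (x⁻¹ ^ 2) * c s, fun D => ?_⟩
    rw [D.leibniz_inv, hc, smul_eq_mul, Finset.mul_sum]
    exact Finset.sum_congr rfl fun s _ => by ring
  | mul x y _ _ hx hy =>
    obtain ⟨c, hc⟩ := hx
    obtain ⟨c', hc'⟩ := hy
    refine ⟨fun s => x * c' s + y * c s, fun D => ?_⟩
    rw [D.leibniz, hc, hc', smul_eq_mul, smul_eq_mul, Finset.mul_sum, Finset.mul_sum, ← Finset.sum_add_distrib]
    exact Finset.sum_congr rfl fun s _ => by ring

theorem dep_poly (a : F) (P : Polynomial (IntermediateField.adjoin k (S : Set F))) :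
    ∃ c : F → F, ∀ D : Derivation k F F, D (Polynomial.aeval a P) =
      ∑ s ∈ S, c s * D s + Polynomial.aeval a (Polynomial.derivative P) * D a := by
  induction P using Polynomial.induction_on' with
  | add P Q hP hQ =>
    obtain ⟨c, hc⟩ := hP
    obtain ⟨c', hc'⟩ := hQ
    refine ⟨fun s => c s + c' s, fun D => ?_⟩
    rw [map_add, map_add, hc, hc', Polynomial.derivative_add, map_add]
    simp only [add_mul, Finset.sum_add_distrib]
    ring
  | monomial n e =>
    obtain ⟨c, hc⟩ := dep_adjoin e.2
    refine ⟨fun s => a ^ n * c s, fun D => ?_⟩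
    rw [Polynomial.aeval_monomial, D.leibniz, D.leibniz_pow, Polynomial.derivative_monomial, Polynomial.aeval_monomial]
    have h1 : D (algebraMap (IntermediateField.adjoin k (S : Set F)) F e) = ∑ s ∈ S, c s * D s := hc D
    have h2 : ∑ s ∈ S, (a ^ n * c s) * D s = a ^ n * ∑ s ∈ S, c s * D s := by
      rw [Finset.mul_sum]
      exact Finset.sum_congr rfl fun s _ => by ring
    rw [h1, h2, map_mul, map_natCast, add_comm]
    simp only [smul_eq_mul, nsmul_eq_mul]
    ring

theorem dep_cl [CharZero k] {a : F} (ha : a ∈ cl k (S : Set F)) : Dep k S a := by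
  have hE : IsAlgebraic (IntermediateField.adjoin k (S : Set F)) a := by
    have h1 : IsAlgebraic (Algebra.adjoin k (S : Set F)) a := ha
    obtain ⟨P, hP, h0⟩ := h1
    let i : Algebra.adjoin k (S : Set F) →+* IntermediateField.adjoin k (S : Set F) :=
      (Subalgebra.inclusion (IntermediateField.algebra_adjoin_le_adjoin k (S : Set F))).toRingHom
    have hi : Function.Injective i :=
      Subalgebra.inclusion_injective (IntermediateField.algebra_adjoin_le_adjoin k (S : Set F))
    refine ⟨P.map i, (Polynomial.map_ne_zero_iff hi).2 hP, ?_⟩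
    rw [Polynomial.aeval_def, Polynomial.eval₂_map]
    exact h0
  have : CharZero (IntermediateField.adjoin k (S : Set F)) := charZero_of_injective_algebraMap
    (algebraMap k (IntermediateField.adjoin k (S : Set F))).injective
  have hint := hE.isIntegral
  obtain ⟨c, hc⟩ := dep_poly a (minpoly (IntermediateField.adjoin k (S : Set F)) a)
  set u := Polynomial.aeval a (Polynomial.derivative (minpoly (IntermediateField.adjoin k (S : Set F)) a)) with hu
  have hne : u ≠ 0 := (minpoly.irreducible hint).separable.aeval_derivative_ne_zero (minpoly.aeval _ _)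
  refine ⟨fun s => - u⁻¹ * c s, fun D => ?_⟩
  have h1 := hc D
  rw [minpoly.aeval, map_zero] at h1
  have h2 : ∑ s ∈ S, (- u⁻¹ * c s) * D s = - u⁻¹ * ∑ s ∈ S, c s * D s := by
    rw [Finset.mul_sum]
    exact Finset.sum_congr rfl fun s _ => by ring
  rw [h2, eq_neg_of_add_eq_zero_left h1.symm]
  field_simp

/-- The derivatives of `x`, together with one vector, span everything. -/
theorem gen_of_span [CharZero k] {σ : Type*} [Fintype σ] {x β : σ → F}
    (hspan : Submodule.span F ({v | ∃ D : Derivation k F F, v = fun i => D (x i)} ∪ {β}) = ⊤) : Gen k x := by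
  classical
  intro S hS hx
  obtain ⟨S, rfl⟩ : ∃ T : Finset F, S = T := ⟨hS.toFinset, by simp⟩
  choose c hc using fun l => dep_cl (hx l)
  let w : F → (σ → F) := fun s l => c l s
  have h1 : Submodule.span F ({v : σ → F | ∃ D : Derivation k F F, v = fun i => D (x i)} ∪ {β}) ≤
      Submodule.span F ((S.image w ∪ {β} : Finset (σ → F)) : Set (σ → F)) := by
    rw [Submodule.span_le]
    rintro v (⟨D, rfl⟩ | rfl)
    · have h2 : (fun i => D (x i)) = ∑ s ∈ S, D s • w s := by
        funext l
        rw [hc, Finset.sum_apply]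
        exact Finset.sum_congr rfl fun s _ => by simp [w, mul_comm]
      rw [SetLike.mem_coe, h2]
      refine Submodule.sum_mem _ fun s hs => Submodule.smul_mem _ _ (Submodule.subset_span ?_)
      rw [Finset.mem_coe, Finset.mem_union]
      exact Or.inl (Finset.mem_image_of_mem w hs)
    · refine Submodule.subset_span ?_
      rw [Finset.mem_coe, Finset.mem_union]
      exact Or.inr (Finset.mem_singleton_self _)
  rw [hspan, top_le_iff] at h1
  have h3 := finrank_span_finset_le_card (R := F) (S.image w ∪ {β})
  rw [Set.finrank, h1, finrank_top, Module.finrank_fintype_fun_eq_card] at h3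
  rw [Set.ncard_coe_finset]
  refine h3.trans ((Finset.card_union_le _ _).trans ?_)
  rw [Finset.card_singleton]
  exact Nat.add_le_add_right Finset.card_image_le 1

end der
end K276.GenAlg
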