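import Mathlib.LinearAlgebra.Matrix.Rank
import Mathlib.RingTheory.Derivation.Basic
import Mathlib.LinearAlgebra.Dimension.RankNullity
import Mathlib.LinearAlgebra.TensorProduct.Tower

/-!
# Goodness of the points `γ` whose derivatives span a hyperplane

`rank_le`: a bilinear system `M` over `k`, `γ` over `Ω` such that the `D γ`, `D ∈ Der_k(Ω)`, together with one vector `β`
span everything. If `M(ξ, γ) = 0` for a nonzero `ξ`, then `M(ξ, ·)` has rank at most the number of coordinates of `ξ`.
-/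

set_option autoImplicit false
universe u v

open Module Matrix

namespace K276.Good

variable {k Om : Type*} [Field k] [Field Om] [Algebra k Om] {ι κ σ : Type*} [Fintype ι] [Fintype κ] [Fintype σ]
  (M : σ → ι → κ → k)

/-- The matrix `M(ξ)`. -/
def mat (ξ : κ → Om) : Matrix σ ι Om := Matrix.of fun s i => ∑ j, algebraMap k Om (M s i j) * ξ j

/-- The matrix `M(γ)`. -/
def mat' (γ : ι → Om) : Matrix σ κ Om := Matrix.of fun s j => ∑ i, algebraMap k Om (M s i j) * γ i

omit [Fintype σ] in
theorem mat_mulVec (ξ : κ → Om) (γ : ι → Om) : mat M ξ *ᵥ γ = mat' M γ *ᵥ ξ := by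
  funext s
  simp only [mat, mat', Matrix.mulVec, dotProduct, Matrix.of_apply, Finset.sum_mul]
  rw [Finset.sum_comm]
  exact Finset.sum_congr rfl fun j _ => Finset.sum_congr rfl fun i _ => by ring

omit [Fintype σ] in
theorem der_mat_mulVec (D : Derivation k Om Om) (ξ : κ → Om) (γ : ι → Om) (s : σ) :
    D ((mat M ξ *ᵥ γ) s) = (mat' M γ *ᵥ (fun j => D (ξ j))) s + (mat M ξ *ᵥ (fun i => D (γ i))) s := by
  rw [← mat_mulVec, ← Pi.add_apply]
  simp only [mat, Matrix.mulVec, dotProduct, Matrix.of_apply, Pi.add_apply]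
  rw [map_sum, ← Finset.sum_add_distrib]
  refine Finset.sum_congr rfl fun i _ => ?_
  rw [D.leibniz, map_sum, smul_eq_mul, smul_eq_mul, Finset.sum_mul, Finset.mul_sum, add_comm, Finset.sum_mul]
  congr 1
  · refine Finset.sum_congr rfl fun j _ => ?_
    rw [D.leibniz, Derivation.map_algebraMap, smul_zero, add_zero, smul_eq_mul]
    ring

variable {M}

omit [Fintype σ] in
theorem rank_le {γ β : ι → Om}
    (hspan : Submodule.span Om ({v | ∃ D : Derivation k Om Om, v = fun i => D (γ i)} ∪ {β}) = ⊤) {ξ : κ → Om}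
    (hξ : ξ ≠ 0) (h0 : mat M ξ *ᵥ γ = 0) : (mat M ξ).rank ≤ Fintype.card κ := by
  have h1 : LinearMap.range (mat M ξ).mulVecLin ≤
      LinearMap.range (mat' M γ).mulVecLin ⊔ Submodule.span Om {mat M ξ *ᵥ β} := by
    rw [LinearMap.range_eq_map, ← hspan, Submodule.map_span_le]
    rintro v (⟨D, rfl⟩ | rfl)
    · refine Submodule.mem_sup_left ⟨-fun j => D (ξ j), ?_⟩
      funext s
      have h2 := der_mat_mulVec M D ξ γ s
      rw [h0, Pi.zero_apply, map_zero] at h2
      rw [map_neg]
      exact (neg_eq_of_add_eq_zero_right h2.symm)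
    · exact Submodule.mem_sup_right (Submodule.mem_span_singleton_self _)
  have h3 : finrank Om (LinearMap.range (mat' M γ).mulVecLin) + 1 ≤ Fintype.card κ := by
    have h4 := LinearMap.finrank_range_add_finrank_ker (mat' M γ).mulVecLin
    rw [Module.finrank_fintype_fun_eq_card] at h4
    have h5 : 0 < finrank Om (LinearMap.ker (mat' M γ).mulVecLin) := by
      refine Module.finrank_pos_iff_exists_ne_zero.mpr ⟨⟨ξ, ?_⟩, fun h => hξ (congrArg Subtype.val h)⟩
      rw [LinearMap.mem_ker, Matrix.mulVecLin_apply, ← mat_mulVec, h0]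
    omega
  have h6 : finrank Om (Submodule.span Om {mat M ξ *ᵥ β}) ≤ 1 := by
    refine (finrank_span_le_card _).trans ?_
    simp
  have h7 := Submodule.finrank_add_le_finrank_add_finrank (LinearMap.range (mat' M γ).mulVecLin)
    (Submodule.span Om {mat M ξ *ᵥ β})
  have h8 := Submodule.finrank_mono h1
  rw [Matrix.rank]
  omega

section lin

variable {U V : Type*} [AddCommGroup U] [Module Om U] [AddCommGroup V] [Module Om V] (bU : Basis σ Om U)
  (bV : Basis κ Om V) (A : ι → U →ₗ[Om] V)

omit [Fintype ι] [Fintype σ] in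
/-- The functionals `ξ ∘ A i` in coordinates. -/
theorem comp_apply (hA : ∀ i s, A i (bU s) = ∑ j, algebraMap k Om (M s i j) • bV j) (ξ : V →ₗ[Om] Om) (i : ι) (s : σ) :
    (ξ ∘ₗ A i) (bU s) = mat M (fun j => ξ (bV j)) s i := by
  rw [LinearMap.comp_apply, hA, map_sum]
  exact Finset.sum_congr rfl fun j _ => by rw [map_smul, smul_eq_mul]

/-- **Surjectivity at the good points.** -/
theorem surjective_of (hA : ∀ i s, A i (bU s) = ∑ j, algebraMap k Om (M s i j) • bV j) {γ β : ι → Om}
    (hspan : Submodule.span Om ({v | ∃ D : Derivation k Om Om, v = fun i => D (γ i)} ∪ {β}) = ⊤)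
    (hrank : ∀ ξ : V →ₗ[Om] Om, ξ ≠ 0 →
      Fintype.card κ < finrank Om (Submodule.span Om (Set.range fun i => ξ ∘ₗ A i))) :
    Function.Surjective (∑ i, γ i • A i : U →ₗ[Om] V) := by
  by_contra hns
  have h1 : LinearMap.range (∑ i, γ i • A i : U →ₗ[Om] V) < ⊤ :=
    lt_top_iff_ne_top.mpr fun h => hns (LinearMap.range_eq_top.mp h)
  obtain ⟨ξ, hξ, hle⟩ := Submodule.exists_le_ker_of_lt_top _ h1
  have hξ' : (fun j => ξ (bV j)) ≠ 0 := fun h => hξ (bV.ext fun j => by
    rw [LinearMap.zero_apply]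
    exact congrFun h j)
  have h0 : mat M (fun j => ξ (bV j)) *ᵥ γ = 0 := by
    funext s
    have h2 : ξ ((∑ i, γ i • A i : U →ₗ[Om] V) (bU s)) = 0 := hle ⟨_, rfl⟩
    rw [LinearMap.sum_apply, map_sum] at h2
    refine Eq.trans (Finset.sum_congr rfl fun i _ => ?_) h2
    rw [LinearMap.smul_apply, map_smul, smul_eq_mul, mul_comm]
    exact congrArg (γ i * ·) (comp_apply bU bV A hA ξ i s).symm
  have h3 := rank_le hspan hξ' h0
  have h4 : (mat M (fun j => ξ (bV j))).rank = finrank Om (Submodule.span Om (Set.range fun i => ξ ∘ₗ A i)) := by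
    rw [Matrix.rank_eq_finrank_span_cols]
    let e : (U →ₗ[Om] Om) ≃ₗ[Om] (σ → Om) := bU.constr Om |>.symm
    have h5 : (Submodule.span Om (Set.range fun i => ξ ∘ₗ A i)).map (e : (U →ₗ[Om] Om) →ₗ[Om] (σ → Om)) =
        Submodule.span Om (Set.range (mat M (fun j => ξ (bV j))).col) := by
      rw [Submodule.map_span, ← Set.range_comp]
      congr 1
      refine congrArg Set.range (funext fun i => funext fun s => ?_)
      exact comp_apply bU bV A hA ξ i s
    rw [← h5]
    exact LinearEquiv.finrank_map_eq e _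
  have h6 := hrank ξ hξ
  omega

end lin

end K276.Good
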