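import Groth.Agent.BunMod.K276.GenAlg
import Groth.Agent.BunMod.K276.BCNat
import Groth.Agent.BunMod.K276.Data
import Groth.Agent.BunMod.K890.KSDefs
import Groth.Agent.BunMod.K54.TwExact
import Groth.Agent.Variety.K425.QuotBC
import Groth.Agent.VBCurve.K704.InvHom
import Groth.Agent.VBCurve.K703.Stab

/-!
# Versal points: vanishing of `H¹` of the cokernels (helper276, S16926 node K5)

`V_γ = VA e Ω γ` the cokernel of `∑ γ_l e_l : K_Ω ⟶ G_Ω` on `X_Ω`, `W` a module on `X`.

* `surjective_tens`: `H^n(∑ γ_l e_l ⊗ W_Ω)` is surjective if `∑ γ_l • H^n(e_l ⊗ W)` is surjective over `Ω`;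
* `subsingleton_cokernel`: right exactness of `H¹` on a curve;
* `rank_est`: the rank estimate;
* `vp`, `vp_data`: `H¹(X_Ω, V_γ ⊗ W) = 0` for `Gen k γ`.
-/

set_option autoImplicit false
universe u

open CategoryTheory CategoryTheory.Limits AlgebraicGeometry MonoidalCategory TensorProduct

namespace K276.Vers

open Groth.Agent K707.TensL K140.BM K524.X1Fam K890.KS Groth.Agent.LoccohB Groth.Agent.LoccohB.SectLin303
open K276.BCNat

section tens

open scoped Groth.Agent.Dcoh.MonCat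

/-- `f^*(M ⊗ N) ≅ f^*M ⊗ f^*N`. -/
noncomputable def pT {X Y : Scheme.{u}} (f : X ⟶ Y) (M N : Y.Modules) :
    (Scheme.Modules.pullback f).obj ((T N).obj M) ≅
      (T ((Scheme.Modules.pullback f).obj N)).obj ((Scheme.Modules.pullback f).obj M) :=
  ASBun.K791.Tens.pullTens f M N

theorem pT_nat {X Y : Scheme.{u}} (f : X ⟶ Y) {M M' : Y.Modules} (φ : M ⟶ M') (N : Y.Modules) :
    (Scheme.Modules.pullback f).map ((T N).map φ) ≫ (pT f M' N).hom =
      (pT f M N).hom ≫ (T ((Scheme.Modules.pullback f).obj N)).map ((Scheme.Modules.pullback f).map φ) := by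
  let _ := Groth.Agent.Dcoh.MonPull.monPull f
  exact (Functor.OplaxMonoidal.δ_natural_left (F := Scheme.Modules.pullback f) φ N).symm

/-- Twisting is linear over the global functions. -/
theorem tens_smul {X : Scheme.{u}} {M M' : X.Modules} (r : Γ(X, ⊤)) (φ : M ⟶ M') (N : X.Modules) :
    (T N).map (r • φ) = r • (T N).map φ := by
  rw [smul_eq, smul_eq, Functor.map_comp, K425.QuotBC.smulHom_tensor]
  rfl

theorem map_smul_hom {X : Scheme.{u}} {M M' : X.Modules} (r : Γ(X, ⊤)) (φ : M ⟶ M') (n : ℕ) (x : Coh.HH X M n) :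
    HHmap.map (r • φ) n x = (show Coh.Γtop X from r) • HHmap.map φ n x := by
  rw [smul_eq, HHmap.map_comp, HHmap.map_smulHom, HHmap.map_smul]

/-- The comparison for a combination of pull-backs. -/
theorem sum_nat {Y X : Scheme.{u}} (f : Y ⟶ X) {K G : X.Modules} {M : ℕ} (e : Fin M → (K ⟶ G)) (W : X.Modules)
    (r : Fin M → Γ(Y, ⊤)) :
    (∑ l, r l • (Scheme.Modules.pullback f).map ((T W).map (e l))) ≫ (pT f G W).hom =
      (pT f K W).hom ≫ (T ((Scheme.Modules.pullback f).obj W)).map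
        (∑ l, r l • (Scheme.Modules.pullback f).map (e l)) := by
  rw [Functor.map_sum, Preadditive.sum_comp, Preadditive.comp_sum]
  refine Finset.sum_congr rfl fun l _ => ?_
  rw [tens_smul, Linear.smul_comp, Linear.comp_smul, pT_nat]

end tens

section gen

variable {k : Type u} [Field k] {Om : Type u} [Field Om] [Algebra k Om] {X Y : Scheme.{u}}
  [X.Over (Spec (CommRingCat.of k))] [CompactSpace X] [QuasiSeparatedSpace X]
  (f' : Y ⟶ Spec (CommRingCat.of Om)) (g : Y ⟶ X)
  (h : IsPullback g f' (X ↘ Spec (CommRingCat.of k)) (Spec.map (CommRingCat.ofHom (algebraMap k Om))))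

include h in
theorem surjective_tens {K G W : X.Modules} (hK : Coh.IsQCoh ((T W).obj K)) (hG : Coh.IsQCoh ((T W).obj G)) {n M : ℕ}
    (e : Fin M → (K ⟶ G)) (γ : Fin M → Om) (r : Fin M → Γ(Y, ⊤)) (hr : ∀ l, r l = Coh.toGlobal f' (γ l))
    (hs : Function.Surjective ⇑(∑ l, γ l • (hmap ((T W).map (e l)) n).baseChange Om :
      Om ⊗[k] Coh.HH X ((T W).obj K) n →ₗ[Om] Om ⊗[k] Coh.HH X ((T W).obj G) n)) :
    Function.Surjective (HHmap.map ((T ((Scheme.Modules.pullback g).obj W)).map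
      (∑ l, r l • (Scheme.Modules.pullback g).map (e l))) n) := by
  have h1 := surjective_map f' g h hK hG (fun l => (T W).map (e l)) γ
    (∑ l, r l • (Scheme.Modules.pullback g).map ((T W).map (e l)))
    (fun x => by
      rw [HHmap.map_sum]
      refine Finset.sum_congr rfl fun l _ => ?_
      rw [map_smul_hom, hr]) hs
  have h2 := sum_nat g e W r
  intro y
  obtain ⟨x, hx⟩ := h1 (HHmap.map (pT g G W).inv n y)
  refine ⟨HHmap.map (pT g K W).hom n x, ?_⟩
  rw [← HHmap.map_comp, ← h2, HHmap.map_comp, hx, ← HHmap.map_comp, Iso.inv_hom_id, HHmap.map_id]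

omit [CompactSpace X] [QuasiSeparatedSpace X] in
/-- `H¹` of the cokernel. -/
theorem subsingleton_cokernel {Y : Scheme.{u}} (h2 : ∀ F : Y.Modules, Subsingleton (Coh.HH Y F 2)) {K G W : Y.Modules}
    (u : K ⟶ G) (hu : Function.Surjective (HHmap.map ((T W).map u) 1)) :
    Subsingleton (Coh.HH Y (CohB1.tensorMod (cokernel u) W) 1) := by
  have hepi : Epi ((T W).map (cokernel.π u)) := inferInstance
  have hS : (ShortComplex.mk (kernel.ι ((T W).map (cokernel.π u))) ((T W).map (cokernel.π u))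
      (kernel.condition _)).ShortExact :=
    { exact := ShortComplex.exact_kernel _
      mono_f := inferInstance
      epi_g := hepi }
  have h3 : ∀ x : Coh.HH Y (CohB1.tensorMod (cokernel u) W) 1, x = 0 := fun x => by
    obtain ⟨y, hy⟩ := CohqB.HSeqMod.exact₃ hS 1 x (@Subsingleton.elim _ (h2 _) _ _)
    obtain ⟨z, rfl⟩ := hu y
    rw [← hy]
    have h4 : (T W).map u ≫ (T W).map (cokernel.π u) = 0 := by
      rw [← Functor.map_comp, cokernel.condition, Functor.map_zero]
    change HHmap.map ((T W).map (cokernel.π u)) 1 (HHmap.map ((T W).map u) 1 z) = 0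
    rw [← HHmap.map_comp, h4, HHmap.map_zero']
  exact ⟨fun a b => (h3 a).trans (h3 b).symm⟩

end gen

section rank

theorem lcomp_sum {R U V W : Type*} [CommRing R] [AddCommGroup U] [AddCommGroup V] [AddCommGroup W] [Module R U]
    [Module R V] [Module R W] {ι : Type*} (s : Finset ι) (f : V →ₗ[R] W) (g : ι → U →ₗ[R] V) :
    f ∘ₗ ∑ i ∈ s, g i = ∑ i ∈ s, f ∘ₗ g i := by
  ext x
  simp

open K707.Base K707.Deg K707.Slope K707.Semi Groth.Agent.VarietyA.DegRank

variable {k : Type u} [Field k] {X : Scheme.{u}} [X.Over (Spec (CommRingCat.of k))] [IsIntegral X]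
  [IsProper (X ↘ (Spec (CommRingCat.of k)))]

include k in
/-- A torsion module has no `H¹`. -/
theorem subsingleton_of_torsion (C : Crv k X) {Q : X.Modules} (hQ : Coh.IsCoh Q) (h0 : rk Q = 0) :
    Subsingleton (Coh.HH X Q 1) := by
  have := isNoetherian k (X := X)
  have hs := dim_support_le_zero C.dim.le Q hQ (not_mem_support (subsingleton_of_rk_eq_zero hQ h0))
  refine Groth.Agent.S0047.result X Q hQ (fun x hx => ?_) 1 (by norm_num)
  exact Groth.Agent.VarietyA.GlobGen.isClosed_singleton_of_mem_support Q hQ.2 hs hx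

include k in
/-- A nonzero map of invertible modules is surjective on `H¹`, also after twisting. -/
theorem surjective_h1 (C : Crv k X) {A B W : X.Modules} (hA : PicF.IsInvertible A) (hB : PicF.IsInvertible B) {n : ℕ}
    (hW : FlatMod.IsFinLocFreeOfRank n W) (v : A ⟶ B) (hv : v ≠ 0) :
    Function.Surjective (HHmap.map ((T W).map v) 1) := by
  have := K704.InvHom.mono_of_ne_zero hA hB v hv
  have hS := cokernel_shortExact v
  have := K707.TensL.preservesFiniteLimits (isFinLocFree_of_rank hW)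
  have hST := hS.map_of_exact (T W)
  have hcA := K703.Basic.isCoh_of_inv hA
  have hcB := K703.Basic.isCoh_of_inv hB
  have hQ := coh_cokernel v hcA hcB
  have hr := rk_add' (k := k) _ hS hcB
  have hrQ : rk (cokernel v) = 0 := by
    have h1 : rk B = rk A + rk (cokernel v) := hr
    rw [K703.Stab.rk_of_inv hA, K703.Stab.rk_of_inv hB] at h1
    omega
  have h2 : Subsingleton (Coh.HH X (CohB1.tensorMod (cokernel v) W) 1) :=
    subsingleton_of_torsion C (coh_tensor hW hQ) (by rw [rk_tensor hW hQ, hrQ, mul_zero])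
  intro x
  obtain ⟨y, hy⟩ := CohqB.HSeqMod.exact₂ hST 1 x (@Subsingleton.elim _ h2 _ _)
  exact ⟨y, hy⟩

omit [IsIntegral X] [IsProper (X ↘ (Spec (CommRingCat.of k)))] in
theorem hmap_comp {A B D : X.Modules} (φ : A ⟶ B) (ψ : B ⟶ D) (n : ℕ) :
    hmap (A := k) (φ ≫ ψ) n = hmap ψ n ∘ₗ hmap φ n := by
  ext x
  exact HHmap.map_comp φ ψ n x

omit [IsIntegral X] [IsProper (X ↘ (Spec (CommRingCat.of k)))] in
theorem hmap_sum {A B : X.Modules} {ι : Type*} (s : Finset ι) (φ : ι → (A ⟶ B)) (n : ℕ) :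
    hmap (A := k) (∑ i ∈ s, φ i) n = ∑ i ∈ s, hmap (φ i) n := by
  ext x
  rw [LinearMap.sum_apply]
  exact HHmap.map_sum s φ n x

omit [IsIntegral X] [IsProper (X ↘ (Spec (CommRingCat.of k)))] in
theorem hmap_ua {A B : X.Modules} (W : X.Modules) {d : ℕ} (v : Fin d → (A ⟶ B)) (a : Fin d → k) (n : ℕ) :
    hmap (A := k) ((T W).map (ua v a)) n = ∑ i, a i • hmap ((T W).map (v i)) n := by
  rw [ua, Functor.map_sum, hmap_sum]
  refine Finset.sum_congr rfl fun i _ => ?_
  rw [tens_smul]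
  ext x
  exact map_smul_hom _ _ n x

include k in
/-- **The rank estimate.** -/
theorem rank_est (C : Crv k X) {K P' G W : X.Modules} (hK : PicF.IsInvertible K) (hP' : PicF.IsInvertible P') {n : ℕ}
    (hW : FlatMod.IsFinLocFreeOfRank n W) {q : ℕ} (ι : Fin q → (P' ⟶ G)) (ρ : Fin q → (G ⟶ P'))
    (hid : ∑ j, ρ j ≫ ι j = 𝟙 G) {M : ℕ} (e : Fin M → (K ⟶ G)) (he : ∀ u : K ⟶ G, ∃ a : Fin M → k, u = ua e a)
    {d : ℕ} (v : Fin d → (K ⟶ P')) (hv : ∀ a : Fin d → k, ua v a = 0 → a = 0)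
    (ξ : Module.Dual k (Coh.HH X ((T W).obj G) 1)) (hξ : ξ ≠ 0) :
    d ≤ Module.finrank k (Submodule.span k (Set.range fun l => ξ ∘ₗ hmap ((T W).map (e l)) 1)) := by
  obtain ⟨j, hj⟩ : ∃ j, ξ ∘ₗ hmap ((T W).map (ι j)) 1 ≠ 0 := by
    by_contra hcon
    push Not at hcon
    apply hξ
    have h1 : hmap (A := k) ((T W).map (𝟙 G)) 1 = LinearMap.id := by
      ext x
      rw [CategoryTheory.Functor.map_id]
      exact HHmap.map_id _ _ x
    have h2 : ξ = ξ ∘ₗ hmap (A := k) ((T W).map (𝟙 G)) 1 := by rw [h1, LinearMap.comp_id]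
    rw [h2, ← hid, Functor.map_sum, hmap_sum, lcomp_sum]
    refine Finset.sum_eq_zero fun j _ => ?_
    rw [Functor.map_comp, hmap_comp, ← LinearMap.comp_assoc, hcon j, LinearMap.zero_comp]
  let Φ : (Fin d → k) →ₗ[k] (Coh.HH X ((T W).obj K) 1 →ₗ[k] k) :=
    ∑ i, (LinearMap.proj i).smulRight (ξ ∘ₗ hmap ((T W).map (ι j)) 1 ∘ₗ hmap ((T W).map (v i)) 1)
  have hΦ : ∀ a, Φ a = ξ ∘ₗ hmap ((T W).map (ι j)) 1 ∘ₗ hmap ((T W).map (ua v a)) 1 := by
    intro a
    rw [hmap_ua, lcomp_sum, lcomp_sum]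
    simp only [Φ, LinearMap.sum_apply, LinearMap.smulRight_apply, LinearMap.proj_apply]
    refine Finset.sum_congr rfl fun i _ => ?_
    rw [LinearMap.comp_smul, LinearMap.comp_smul]
  have hinj : Function.Injective Φ := by
    rw [injective_iff_map_eq_zero]
    intro a ha
    by_contra hne
    have h1 : ua v a ≠ 0 := fun h => hne (hv a h)
    have h2 := surjective_h1 C hK hP' hW _ h1
    apply hj
    ext y
    obtain ⟨x, rfl⟩ := h2 y
    have h3 := LinearMap.congr_fun ((hΦ a).symm.trans ha) x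
    exact h3
  have hle : LinearMap.range Φ ≤ Submodule.span k (Set.range fun l => ξ ∘ₗ hmap ((T W).map (e l)) 1) := by
    rintro _ ⟨a, rfl⟩
    obtain ⟨b, hb⟩ := he (ua v a ≫ ι j)
    rw [hΦ, ← hmap_comp, ← Functor.map_comp, hb, hmap_ua, lcomp_sum]
    refine Submodule.sum_mem _ fun l _ => ?_
    rw [LinearMap.comp_smul]
    exact Submodule.smul_mem _ _ (Submodule.subset_span ⟨l, rfl⟩)
  let ψ : (Fin d → k) →ₗ[k] Submodule.span k (Set.range fun l => ξ ∘ₗ hmap ((T W).map (e l)) 1) :=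
    Φ.codRestrict _ fun a => hle ⟨a, rfl⟩
  have hψ : Function.Injective ψ := fun a b hab => hinj (congrArg Subtype.val hab)
  have hfin : Module.Finite k (Submodule.span k (Set.range fun l => ξ ∘ₗ hmap ((T W).map (e l)) 1)) :=
    FiniteDimensional.span_of_finite k (Set.finite_range _)
  have h5 := LinearMap.finrank_le_finrank_of_injective hψ
  rwa [Module.finrank_fin_fun] at h5

end rank

section final

open K707.Base K707.Deg K707.Slope K707.Semi Groth.Agent.VarietyA.DegRank K276.GenAlg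

variable {k : Type u} [Field k] [IsAlgClosed k] {X : Scheme.{u}} [X.Over (Spec (CommRingCat.of k))]
  [IsProper (X ↘ (Spec (CommRingCat.of k)))] [Smooth (X ↘ (Spec (CommRingCat.of k)))]
  [GeometricallyConnected (X ↘ (Spec (CommRingCat.of k)))] (hdim : topologicalKrullDim X = 1)

include hdim in
/-- **Vanishing of `H¹` at the versal points.** -/
theorem vp {K P' G W : X.Modules} (hK : PicF.IsInvertible K) (hP' : PicF.IsInvertible P') {n n' : ℕ}
    (hG : FlatMod.IsFinLocFreeOfRank n' G) (hW : FlatMod.IsFinLocFreeOfRank n W) {q : ℕ} (ι : Fin q → (P' ⟶ G))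
    (ρ : Fin q → (G ⟶ P')) (hid : ∑ j, ρ j ≫ ι j = 𝟙 G) {M : ℕ} (e : Fin M → (K ⟶ G))
    (he : ∀ u : K ⟶ G, ∃ a : Fin M → k, u = ua e a) {d : ℕ} (v : Fin d → (K ⟶ P'))
    (hv : ∀ a : Fin d → k, ua v a = 0 → a = 0) (hd : Module.finrank k (Coh.HH X (CohB1.tensorMod G W) 1) < d)
    {Om : Type u} [Field Om] [Algebra k Om] (γ : Fin M → Om) (hγ : Gen k γ) :
    Subsingleton (Coh.HH (PicF.XT (st k X) (SpA k Om)) (CohB1.tensorMod (VA e Om γ) (cst k (SpA k Om) W)) 1) := by
  have hint : IsIntegral X := K533.CurveBasic.isIntegral (k := k) (X ↘ Spec (CommRingCat.of k))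
  have C : Crv k X := Crv.of_smooth hdim
  have hN : IsNoetherian X := K707.Deg.isNoetherian k
  have hcK : Coh.IsCoh ((T W).obj K) := coh_tensor hW (K703.Basic.isCoh_of_inv hK)
  have hcG : Coh.IsCoh ((T W).obj G) := coh_tensor hW (isCoh_of_rank hG)
  have hfK : Module.Finite k (Coh.HH X ((T W).obj K) 1) := S0002.result k X _ hcK 1
  have hfG : Module.Finite k (Coh.HH X ((T W).obj G) 1) := S0002.result k X _ hcG 1
  have hs := GenAlg.surjective (k := k) (F := Om) (x := γ) (fun l => hmap (A := k) ((T W).map (e l)) 1)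
    (fun ξ hξ => lt_of_lt_of_le hd (rank_est C hK hP' hW ι ρ hid e he v hv ξ hξ)) hγ
  refine subsingleton_cokernel (fun F => K54.TwExact.subsingleton_HH_tpt hdim.le _ F 2 (by norm_num))
    (ueA e Om γ) ?_
  exact surjective_tens (k := k) (Om := Om) (PicF.XTproj (st k X) (SpA k Om)) (pullback.fst (st k X) (SpA k Om).hom)
    (IsPullback.of_hasPullback (st k X) (SpA k Om).hom) hcK.1 hcG.1 e γ
    (fun l => fT k X (SpA k Om) (fn k (γ l))) (fun l => rfl) hs

include hdim in
/-- The same for the data of `K276.Data`, `W = G'` the dual of `G`. -/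
theorem vp_data {r m : ℕ} {N D₀ : X.Modules} (C : Data k X r m N D₀) {Om : Type u} [Field Om] [Algebra k Om]
    (γ : Fin C.M → Om) (hγ : Gen k γ) :
    Subsingleton (Coh.HH (PicF.XT (st k X) (SpA k Om))
      (CohB1.tensorMod (VA C.e Om γ) (cst k (SpA k Om) C.G')) 1) := by
  obtain ⟨q, ι, ρ, hid⟩ := C.summand
  obtain ⟨d, v, hv, hd⟩ := C.big
  exact vp hdim (rank_one_iff.1 C.hK) C.hP' C.hG C.hG' ι ρ hid C.e C.span v hv hd γ hγ

end final

end K276.Vers
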